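import Groth.Agent.SmoothBCLib.LARelFibre
import Groth.Agent.SmoothBCLib.LocAcycFibre
import Groth.Agent.SmoothBCLib.VCLocAcyclic
import Groth.Agent.StrictLocLib.FlatBC
import Groth.Agent.CdFieldLib.SHField
import Groth.Agent.WEField.Basic
import Groth.Agent.WLocalLib.WeakEtaleScheme
import Groth.Agent.S0427
import Groth.Agent.S0620
import Groth.Agent.PBCLib.Fibration
import Groth.Agent.SylowFiltLib.Step
import Groth.Agent.WLocalLib.Strict

/-!
# Base change to a geometric point along a locally acyclic morphism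
-/

set_option autoImplicit false
set_option linter.style.haveILetI false
set_option backward.isDefEq.respectTransparency false
set_option backward.isDefEq.respectTransparency.types false
set_option maxHeartbeats 2000000
set_option synthInstance.maxHeartbeats 400000

universe u

open CategoryTheory CategoryTheory.Limits AlgebraicGeometry Opposite IsLocalRing
open scoped TensorProduct

noncomputable section

namespace Groth.Agent.LAFibreLib

attribute [local instance] Groth.Agent.S0101.result

variable {Ω : Type u} [Field Ω] [IsSepClosed Ω]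

/-- Affine weakly étale schemes over a separably closed field are integral over it. -/
theorem isIntegralHom_of_weaklyEtale {Z : Scheme.{u}} [IsAffine Z] (a : Z ⟶ Spec (CommRingCat.of Ω)) [WeaklyEtale a] :
    IsIntegralHom a := by
  let φ : CommRingCat.of Ω ⟶ Γ(Z, ⊤) := (Scheme.ΓSpecIso (CommRingCat.of Ω)).inv ≫ a.appTop
  have e : a = Z.isoSpec.hom ≫ Spec.map φ := by
    apply ext_of_isAffine
    simp [φ, Scheme.isoSpec_hom]
  letI : Algebra Ω Γ(Z, ⊤) := φ.hom.toAlgebra
  haveI : WeaklyEtale (Spec.map (CommRingCat.ofHom (algebraMap Ω Γ(Z, ⊤)))) := by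
    have h : WeaklyEtale (Z.isoSpec.hom ≫ Spec.map φ) := e ▸ ‹WeaklyEtale a›
    exact (MorphismProperty.cancel_left_of_respectsIso @WeaklyEtale Z.isoSpec.hom (Spec.map φ)).1 h
  haveI : Algebra.WeaklyEtale Ω Γ(Z, ⊤) := WLocalLib.weaklyEtale_of_specMap
  have hint : φ.hom.IsIntegral := fun z => (WEField.isIntegral_of_weaklyEtale (K := Ω) Γ(Z, ⊤)).isIntegral z
  haveI : IsIntegralHom (Spec.map φ) := (IsIntegralHom.SpecMap_iff (φ := φ)).2 hint
  rw [e]; infer_instance

theorem subsingleton_H_of_weaklyEtale {Z : Scheme.{u}} [IsAffine Z] (a : Z ⟶ Spec (CommRingCat.of Ω)) [WeaklyEtale a]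
    (F : EtCoh.Ab Z) (q : ℕ) (hq : 0 < q) : Subsingleton (EtCoh.H Z F q) := by
  haveI := isIntegralHom_of_weaklyEtale a
  obtain ⟨m, rfl⟩ : ∃ m, q = m + 1 := ⟨q - 1, by omega⟩
  obtain ⟨e⟩ := EtVanish.nonempty_H_push_equiv a F (m + 1)
  haveI : Subsingleton (EtCoh.H (Spec (CommRingCat.of Ω)) ((EtCoh.push a).obj F) (m + 1)) :=
    subsingleton_of_forall_eq 0 fun z => EtClosedPts.H_eq_zero_of_sepClosed Ω _ m z
  exact e.symm.toEquiv.subsingleton

/-- Strict localizations of weakly étale schemes over a separably closed field are its spectrum. -/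
theorem isIso_specOf_comp {Z : Scheme.{u}} (a : Z ⟶ Spec (CommRingCat.of Ω)) [WeaklyEtale a] (z : Z)
    (R : Type u) [CommRing R] [IsLocalRing R] [Algebra (Z.presheaf.stalk z) R]
    [IsLocalHom (algebraMap (Z.presheaf.stalk z) R)] [Hensel.IsStrictHenselization (Z.presheaf.stalk z) R] :
    IsIso (Hens2.specOf Z z R ≫ a) := by
  haveI := ProEtSLib.weaklyEtale_specOf Z z R
  haveI hw : WeaklyEtale (Hens2.specOf Z z R ≫ a) := inferInstance
  let φ := Spec.preimage (Hens2.specOf Z z R ≫ a)
  have hφ : Spec.map φ = Hens2.specOf Z z R ≫ a := Spec.map_preimage _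
  letI : Algebra Ω R := φ.hom.toAlgebra
  haveI : WeaklyEtale (Spec.map (CommRingCat.ofHom (algebraMap Ω R))) := by
    show WeaklyEtale (Spec.map φ)
    rw [hφ]; exact hw
  haveI : Algebra.WeaklyEtale Ω R := WLocalLib.weaklyEtale_of_specMap
  haveI : IsLocalHom (algebraMap Ω R) := ⟨fun c hc => IsUnit.mk0 c fun h => not_isUnit_zero (M₀ := R) (by simpa [h] using hc)⟩
  haveI : IsSepClosed (ResidueField Ω) := WLocalLib.isSepClosed_of_ringEquiv (RingEquiv.ofBijective (residue Ω)
    ⟨(residue Ω).injective, residue_surjective⟩)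
  have hb := S0427.result (A := Ω) (B := R)
  haveI : IsIso φ := (ConcreteCategory.isIso_iff_bijective _).2 hb
  rw [← hφ]; infer_instance

section Core

variable {X S : Scheme.{u}} (f : X ⟶ S) (hf : EtRest.IsLocallyAcyclic f) (x : X)
  (RS RX : Type u) [CommRing RS] [CommRing RX] [IsLocalRing RS] [IsLocalRing RX]
  [Algebra (S.presheaf.stalk (f x)) RS] [IsLocalHom (algebraMap (S.presheaf.stalk (f x)) RS)]
  [Hensel.IsStrictHenselization (S.presheaf.stalk (f x)) RS]
  [Algebra (X.presheaf.stalk x) RX] [IsLocalHom (algebraMap (X.presheaf.stalk x) RX)]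
  [Hensel.IsStrictHenselization (X.presheaf.stalk x) RX]
  (ψ : RS →+* RX) [IsLocalHom ψ]
  (hψ : ψ.comp (algebraMap (S.presheaf.stalk (f x)) RS) = (algebraMap (X.presheaf.stalk x) RX).comp (f.stalkMap x).hom)
  (n : ℕ) (hn : (n : X.residueField x) ≠ 0)

include hf hψ hn in
/-- Over a weakly étale scheme over a separably closed field mapped to the strict localization of the base. -/
theorem unit_and_Rpush {Y Z : Scheme.{u}} [IsAffine Z] (a : Z ⟶ Spec (CommRingCat.of Ω)) [WeaklyEtale a]
    (b : Z ⟶ Spec (CommRingCat.of RS)) (π : Y ⟶ Z) (p : Y ⟶ Spec (CommRingCat.of RX))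
    (sq : IsPullback π p b (Spec.map (CommRingCat.ofHom ψ))) :
    IsIso ((EtCoh.pullPushAdj π).unit.app (EtCoh.const Z (ZMod n))) ∧
      ∀ q : ℕ, 0 < q → IsZero ((EtCoh.Rpush π q).obj (EtCoh.const Y (ZMod n))) := by
  haveI : IsAffineHom π := MorphismProperty.of_isPullback sq.flip inferInstance
  have hn0 : 0 < n := Nat.pos_of_ne_zero fun h => hn (by rw [h, Nat.cast_zero])
  haveI : NeZero n := ⟨hn0.ne'⟩
  have key : ∀ z : Z, ∃ (R : Type u) (_ : CommRing R) (_ : IsLocalRing R) (_ : Algebra (Z.presheaf.stalk z) R)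
      (_ : IsLocalHom (algebraMap (Z.presheaf.stalk z) R))
      (_ : Hensel.IsStrictHenselization (Z.presheaf.stalk z) R) (_ : IsSepClosed (ResidueField R)),
      ∀ q : ℕ, Function.Bijective (EtCore.Hpull (pullback.snd π (Hens2.specOf Z z R))
        ((EtCoh.pull (Hens2.specOf Z z R)).obj (EtCoh.const Z (ZMod n))) q) := fun z => by
    obtain ⟨R, _, _, _, _, hR⟩ := Henselization.exists_strictHenselization (R := Z.presheaf.stalk z)
    haveI := hR
    haveI : IsSepClosed (ResidueField R) :=
      (Hensel.IsStrictHenselization.isSepClosure (R := Z.presheaf.stalk z) (S := R)).sep_closed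
    haveI : HenselianLocalRing R := Hensel.IsStrictHenselization.henselian (R := Z.presheaf.stalk z) (S := R)
    refine ⟨R, inferInstance, inferInstance, inferInstance, inferInstance, hR, inferInstance, fun q => ?_⟩
    let ε := Hens2.specOf Z z R
    let W := pullback π ε
    let t := pullback.snd π ε
    haveI := isIso_specOf_comp a z R
    let κ := ε ≫ a
    let τ := Spec.preimage (inv κ ≫ ε ≫ b)
    letI : Algebra RS RX := ψ.toAlgebra
    haveI : IsLocalHom (algebraMap RS RX) := ‹IsLocalHom ψ›
    letI : Algebra RS Ω := τ.hom.toAlgebra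
    have P : IsPullback (pullback.fst π ε ≫ p) t (Spec.map (CommRingCat.ofHom ψ)) (ε ≫ b) :=
      ((IsPullback.of_hasPullback π ε).flip.paste_vert sq).flip
    have P' : IsPullback (pullback.fst π ε ≫ p) (t ≫ κ) (Spec.map (CommRingCat.ofHom (algebraMap RS RX)))
        (Spec.map (CommRingCat.ofHom (algebraMap RS Ω))) := by
      refine IsPullback.of_iso P (Iso.refl _) (Iso.refl _) (asIso κ) (Iso.refl _) ?_ ?_ ?_ ?_
      · simp
      · simp [t, κ]
      · simp only [Iso.refl_hom, Category.comp_id, Category.id_comp]; rfl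
      · show (ε ≫ b) ≫ 𝟙 _ = κ ≫ Spec.map τ
        rw [Category.comp_id, Spec.map_preimage, IsIso.hom_inv_id_assoc]
    let e : W ≅ Spec (CommRingCat.of (RX ⊗[RS] Ω)) := P'.isoPullback ≪≫ pullbackSpecIso RS RX Ω
    have hac := fun (d : ℕ) (hd : (d : X.residueField x) ≠ 0) => hf x RS RX hψ Ω d hd
    haveI : ConnectedSpace ↥(Spec (CommRingCat.of (RX ⊗[RS] Ω))) := by
      obtain ⟨ℓ, hℓ, hℓk⟩ : ∃ ℓ : ℕ, ℓ.Prime ∧ (ℓ : X.residueField x) ≠ 0 := by
        by_cases h2 : ((2 : ℕ) : X.residueField x) = 0
        · refine ⟨3, Nat.prime_three, fun h3 => one_ne_zero (α := X.residueField x) ?_⟩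
          calc (1 : X.residueField x) = ((3 : ℕ) : _) - ((2 : ℕ) : _) := by push_cast; ring
            _ = 0 := by rw [h3, h2, sub_zero]
        · exact ⟨2, Nat.prime_two, h2⟩
      exact (SmoothBCLib.connected_of_H0_const hℓ (hac ℓ hℓk).2.some.toEquiv).2
    haveI : ConnectedSpace ↥W := e.inv.homeomorph.surjective.connectedSpace e.inv.continuous
    haveI : CompactSpace ↥W := e.inv.homeomorph.compactSpace
    haveI : QuasiSeparatedSpace ↥W := (inferInstanceAs (QuasiSeparatedSpace ↥(pullback π ε)))
    have hC : ∀ d : ℕ, (d : X.residueField x) ≠ 0 → ∀ m : ℕ, 0 < m →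
        Subsingleton (EtCoh.H W (EtCoh.const W (ZMod d)) m) := fun d hd m hm => by
      haveI : Subsingleton ↥((EtCoh.HF (Spec (CommRingCat.of (RX ⊗[RS] Ω))) m).obj
          (EtCoh.const (Spec (CommRingCat.of (RX ⊗[RS] Ω))) (ZMod d))) := (hac d hd).1 m hm
      haveI : Subsingleton (EtCoh.H (Spec (CommRingCat.of (RX ⊗[RS] Ω)))
          ((EtCoh.pull e.inv).obj (EtCoh.const W (ZMod d))) m) :=
        ((EtCoh.HF _ m).mapIso (EtCore.pullConst e.inv (ZMod d))).addCommGroupIsoToAddEquiv.toEquiv.subsingleton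
      exact (AcycCompLib.bijective_Hpull_of_isIso e.inv _ m).1.subsingleton
    refine SmoothBCLib.bijective_Hpull_of_iso _ (EtCore.pullConst ε (ZMod n)).symm q ?_
    refine SmoothBCLib.bijective_Hpull_locConst R t hC _
      (((FLCLib.finiteLocallyConstant_iff _).1
        (SylowFiltLib.isFiniteLocallyConstant_const _ (ZMod n))).mono fun _ _ => trivial)
      (fun s => ⟨n, hn0, hn, ?_⟩) q
    obtain ⟨V, l, w, rfl⟩ :=
      (Scheme.pointSmallEtale _).toPresheafFiber_jointly_surjective (P := (EtCoh.const (Spec (CommRingCat.of R)) (ZMod n)).obj) s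
    exact (map_nsmul ((Scheme.pointSmallEtale (Spec.map (CommRingCat.ofHom (residue R)))).toPresheafFiber V l
      (EtCoh.const (Spec (CommRingCat.of R)) (ZMod n)).obj).hom n w).symm.trans
      ((congrArg _ (PBCLib.killedBy_const _ n V w)).trans (map_zero _))
  refine ⟨FLCLib.isIso_of_stalk _ fun Ω' _ _ ζ => ?_, fun q hq => SmoothBCLib.isZero_of_points _ fun z => ?_⟩
  · obtain ⟨R, _, _, _, _, _, _, hH⟩ := key (ζ default)
    refine (ConcreteCategory.isIso_iff_bijective _).2 ?_
    exact SmoothBCLib.bijective_stalk_of_default_eq _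
      (SmoothBCLib.bijective_stalk_unit_of_bijective π _ (ζ default) R (hH 0))
      (SmoothBCLib.geomPt_default (ζ default) R).symm
  · obtain ⟨R, _, _, _, _, _, _, hH⟩ := key z
    refine ⟨_, inferInstance, inferInstance, Hens2.geomPt Z z R, SmoothBCLib.geomPt_default z R, ?_⟩
    exact (SmoothBCLib.isZero_stalk_Rpush_of_bijective π _ z R q hq (hH q)).of_iso
      ((EtCoh.stalk (Hens2.geomPt Z z R)).mapIso ((EtCoh.Rpush π q).mapIso (EtCore.pullConst π (ZMod n)).symm))

end Core

variable {X S : Scheme.{u}}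

/-- The base change of a geometric point to a strict localization. -/
theorem isAffine_pullback_specOf [QuasiSeparatedSpace S] (t : Spec (CommRingCat.of Ω) ⟶ S) (s : S)
    (RS : Type u) [CommRing RS] [IsLocalRing RS] [Algebra (S.presheaf.stalk s) RS]
    [IsLocalHom (algebraMap (S.presheaf.stalk s) RS)] [Hensel.IsStrictHenselization (S.presheaf.stalk s) RS] :
    IsAffine (pullback t (Hens2.specOf S s RS)) := by
  obtain ⟨U, hU, hsU, -⟩ := exists_isAffineOpen_mem_and_subset (X := S) (x := s) (U := ⊤) trivial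
  haveI : IsAffine U.toScheme := hU
  let ε := Hens2.specOf S s RS
  have hr : Set.range ε ⊆ Set.range U.ι := by
    rw [Scheme.Opens.range_ι]
    rintro _ ⟨z, rfl⟩
    have h : (S.fromSpecStalk s) (Spec.map (CommRingCat.ofHom (algebraMap (S.presheaf.stalk s) RS)) z) ⤳ s := by
      have := Set.mem_range_self (f := S.fromSpecStalk s)
        (Spec.map (CommRingCat.ofHom (algebraMap (S.presheaf.stalk s) RS)) z)
      rwa [Scheme.range_fromSpecStalk] at this
    exact h.mem_open U.2 hsU
  by_cases ht : ∃ z, t z ∈ U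
  · have hrt : Set.range t ⊆ Set.range U.ι := by
      rw [Scheme.Opens.range_ι]
      rintro _ ⟨z, rfl⟩
      obtain ⟨z₀, hz₀⟩ := ht
      show t z ∈ U
      rwa [Subsingleton.elim (α := PrimeSpectrum Ω) z z₀]
    have P := CdFieldLib.isPullback_of_comp_mono (IsOpenImmersion.lift U.ι t hrt) (IsOpenImmersion.lift U.ι ε hr) U.ι
    exact .of_isIso (P.isoPullback ≪≫ pullback.congrHom (IsOpenImmersion.lift_fac _ _ _)
      (IsOpenImmersion.lift_fac _ _ _)).inv
  · haveI : IsEmpty ↥(pullback t ε) := ⟨fun z => ht ⟨pullback.fst t ε z, by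
      have e : t (pullback.fst t ε z) = ε (pullback.snd t ε z) := congr($(pullback.condition (f := t) (g := ε)) z)
      rw [e]
      have := hr ⟨pullback.snd t ε z, rfl⟩
      rwa [Scheme.Opens.range_ι] at this⟩⟩
    infer_instance

theorem result_aux [QuasiSeparatedSpace S] (f : X ⟶ S) (hf : EtRest.IsLocallyAcyclic f) (n : ℕ)
    (hn : IsUnit (n : Γ(S, ⊤))) (t : Spec (CommRingCat.of Ω) ⟶ S) :
    IsIso (EtCoh.baseChange0 t f (pullback.fst f t) (pullback.snd f t) (pullback.condition).symm
      (EtCoh.const (Spec (CommRingCat.of Ω)) (ZMod n))) ∧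
    ∀ q : ℕ, 0 < q →
      IsZero ((EtCoh.Rpush (pullback.fst f t) q).obj (EtCoh.const (pullback f t) (ZMod n))) := by
  have hnx : ∀ x : X, (n : X.residueField x) ≠ 0 := fun x => by
    have h := (hn.map f.appTop.hom).map (X.presheaf.germ ⊤ x trivial ≫ X.residue x).hom
    rw [map_natCast, map_natCast] at h
    exact h.ne_zero
  have hc := (IsPullback.of_hasPullback f t).flip
  haveI : QuasiCompact t := quasiCompact_of_compactSpace t
  haveI : QuasiSeparated t := inferInstance
  haveI : QuasiCompact (pullback.fst f t) := MorphismProperty.pullback_fst _ _ inferInstance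
  haveI : QuasiSeparated (pullback.fst f t) := MorphismProperty.pullback_fst _ _ inferInstance
  refine ⟨StrictLocLib.isIso_baseChange0_of_localUnit t f (pullback.fst f t) (pullback.snd f t) hc _
    fun x RS _ _ _ _ _ RX _ _ _ _ _ ψ _ hψ π hπ => ?_, fun q hq => SmoothBCLib.isZero_of_points _ fun x => ?_⟩
  · haveI := isAffine_pullback_specOf t (f x) RS
    haveI := ProEtSLib.weaklyEtale_specOf S (f x) RS
    haveI : WeaklyEtale (pullback.fst t (Hens2.specOf S (f x) RS)) := MorphismProperty.pullback_fst _ _ inferInstance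
    haveI := (unit_and_Rpush f hf x RS RX ψ hψ n (hnx x) (pullback.fst t (Hens2.specOf S (f x) RS)) _ π _ hπ).1
    let e := EtCore.pullConst (pullback.fst t (Hens2.specOf S (f x) RS)) (ZMod n)
    exact (NatTrans.isIso_app_iff_of_iso ((EtCoh.pullPushAdj π).unit) e).2 inferInstance
  · obtain ⟨RX, _, _, _, _, hRX⟩ := Henselization.exists_strictHenselization (X.presheaf.stalk x)
    obtain ⟨RS, _, _, _, _, hRS⟩ := Henselization.exists_strictHenselization (S.presheaf.stalk (f x))
    haveI := hRX
    haveI := hRS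
    haveI := Hensel.IsStrictHenselization.henselian (R := S.presheaf.stalk (f x)) (S := RS)
    haveI := Hensel.IsStrictHenselization.henselian (R := X.presheaf.stalk x) (S := RX)
    haveI : IsSepClosed (ResidueField RX) :=
      (Hensel.IsStrictHenselization.isSepClosure (R := X.presheaf.stalk x) (S := RX)).sep_closed
    obtain ⟨ψ, hloc, hψ, hsp⟩ := SmoothBCLib.exists_strictLoc_hom f x RS RX
    haveI := hloc
    let εX := Hens2.specOf X x RX
    let εS := Hens2.specOf S (f x) RS
    let Y := pullback (pullback.fst f t) εX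
    let π : Y ⟶ pullback t εS := pullback.lift (pullback.fst _ _ ≫ pullback.snd f t)
      (pullback.snd _ _ ≫ Spec.map (CommRingCat.ofHom ψ)) (by
        rw [Category.assoc, Category.assoc, ← pullback.condition, ← hsp, ← Category.assoc, ← Category.assoc,
          pullback.condition])
    have hπ : IsPullback π (pullback.snd (pullback.fst f t) εX) (pullback.snd t εS)
        (Spec.map (CommRingCat.ofHom ψ)) := by
      refine IsPullback.of_right (h₁₂ := pullback.fst t εS) ?_ (pullback.lift_snd _ _ _)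
        (IsPullback.of_hasPullback t εS)
      rw [pullback.lift_fst, ← hsp]
      exact (IsPullback.of_hasPullback (pullback.fst f t) εX).paste_horiz (IsPullback.of_hasPullback f t).flip
    haveI := isAffine_pullback_specOf t (f x) RS
    haveI := ProEtSLib.weaklyEtale_specOf S (f x) RS
    haveI : WeaklyEtale (pullback.fst t εS) := MorphismProperty.pullback_fst _ _ inferInstance
    obtain ⟨hu, hR⟩ := unit_and_Rpush f hf x RS RX ψ hψ n (hnx x) (pullback.fst t εS) _ π _ hπ
    refine ⟨_, inferInstance, inferInstance, Hens2.geomPt X x RX, SmoothBCLib.geomPt_default x RX, ?_⟩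
    haveI hZ := subsingleton_H_of_weaklyEtale (pullback.fst t εS) (EtCoh.const (pullback t εS) (ZMod n)) q hq
    have hb := (AcycCompLib.bijective_Hpull_of_unit π q (EtCoh.const (pullback t εS) (ZMod n)) q hu
      fun m hm _ => (hR m hm).of_iso ((EtCoh.Rpush π m).mapIso (EtCore.pullConst π (ZMod n)))).1 le_rfl
    haveI : Subsingleton ↥((EtCoh.HF Y q).obj ((EtCoh.pull π).obj (EtCoh.const (pullback t εS) (ZMod n)))) :=
      hb.2.subsingleton
    haveI : Subsingleton (EtCoh.H Y ((EtCoh.pull (pullback.fst (pullback.fst f t) εX)).obj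
        (EtCoh.const (pullback f t) (ZMod n))) q) :=
      ((EtCoh.HF Y q).mapIso ((EtCore.pullConst (pullback.fst (pullback.fst f t) εX) (ZMod n)) ≪≫
        (EtCore.pullConst π (ZMod n)).symm)).addCommGroupIsoToAddEquiv.toEquiv.subsingleton
    exact (AddCommGrpCat.isZero_of_subsingleton _).of_iso
      (S0620.result (pullback.fst f t) (EtCoh.const (pullback f t) (ZMod n)) x RX q).some

end Groth.Agent.LAFibreLib
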